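import Mathlib

/-!
# Pushout squares of commutative rings along surjections
-/

set_option autoImplicit false

namespace Groth.Agent.Lib.Helper97.DefLift

open CategoryTheory CategoryTheory.Limits

universe u

/-- `R₄ = R₂ / (ker g) R₂` is the pushout of `R₂ ← R₁ → R₃ = R₁ / ker g`. -/
theorem isPushout_of_surjective {R₁ R₂ R₃ R₄ : Type u} [CommRing R₁] [CommRing R₂] [CommRing R₃]
    [CommRing R₄] (f : R₁ →+* R₂) (g : R₁ →+* R₃) (h : R₂ →+* R₄) (l : R₃ →+* R₄)
    (hcomm : h.comp f = l.comp g) (hh : Function.Surjective h)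
    (hker : RingHom.ker h = (RingHom.ker g).map f) (hg : Function.Surjective g) :
    IsPushout (CommRingCat.ofHom f) (CommRingCat.ofHom g) (CommRingCat.ofHom h)
      (CommRingCat.ofHom l) := by
  have hw : CommRingCat.ofHom f ≫ CommRingCat.ofHom h =
      CommRingCat.ofHom g ≫ CommRingCat.ofHom l := by
    rw [← CommRingCat.ofHom_comp, ← CommRingCat.ofHom_comp, hcomm]
  have hkers : ∀ (s : PushoutCocone (CommRingCat.ofHom f) (CommRingCat.ofHom g)),
      RingHom.ker h ≤ RingHom.ker s.inl.hom := by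
    intro s
    rw [hker, Ideal.map_le_iff_le_comap]
    intro c hc
    rw [Ideal.mem_comap, RingHom.mem_ker]
    have := congrArg (fun φ => φ.hom c) s.condition
    simp only [CommRingCat.hom_comp, CommRingCat.hom_ofHom, RingHom.comp_apply] at this
    rw [this, RingHom.mem_ker.mp hc, map_zero]
  let desc : ∀ (s : PushoutCocone (CommRingCat.ofHom f) (CommRingCat.ofHom g)),
      CommRingCat.of R₄ ⟶ s.pt := fun s =>
    CommRingCat.ofHom (RingHom.liftOfRightInverse h (Function.surjInv hh)
      (Function.rightInverse_surjInv hh) ⟨s.inl.hom, hkers s⟩)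
  have hdesc : ∀ s, CommRingCat.ofHom h ≫ desc s = s.inl := by
    intro s
    refine CommRingCat.hom_ext (RingHom.ext fun x => ?_)
    exact RingHom.liftOfRightInverse_comp_apply h (Function.surjInv hh)
      (Function.rightInverse_surjInv hh) ⟨s.inl.hom, hkers s⟩ x
  refine ⟨⟨hw⟩, ⟨PushoutCocone.IsColimit.mk hw desc hdesc ?_ ?_⟩⟩
  · intro s
    refine CommRingCat.hom_ext (RingHom.ext fun c => ?_)
    obtain ⟨c₁, rfl⟩ := hg c
    have h1 := congrArg (fun φ => φ.hom (f c₁)) (hdesc s)
    simp only [CommRingCat.hom_comp, CommRingCat.hom_ofHom, RingHom.comp_apply] at h1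
    have h2 : h (f c₁) = l (g c₁) := congrArg (fun φ => φ c₁) hcomm
    have h3 := congrArg (fun φ => φ.hom c₁) s.condition
    simp only [CommRingCat.hom_comp, CommRingCat.hom_ofHom, RingHom.comp_apply] at h3
    show (desc s).hom (l (g c₁)) = s.inr.hom (g c₁)
    rw [← h2, h1, h3]
  · intro s m hm _
    refine CommRingCat.hom_ext (RingHom.ext fun b => ?_)
    obtain ⟨x, rfl⟩ := hh b
    have h1 := congrArg (fun φ => φ.hom x) hm
    have h2 := congrArg (fun φ => φ.hom x) (hdesc s)
    simp only [CommRingCat.hom_comp, CommRingCat.hom_ofHom, RingHom.comp_apply] at h1 h2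
    exact h1.trans h2.symm

end Groth.Agent.Lib.Helper97.DefLift
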