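import Groth.Prelude.Def_ArtFun4
import Groth.Agent.Lib.Helper97.DefLift.Pushout
import Groth.Agent.Lib.Helper97.DefAff.RigidTrivial

/-!
# Deformations of an affine scheme as ring data
-/

set_option autoImplicit false

namespace Groth.Agent.Lib.Helper97.DefLift

open CategoryTheory CategoryTheory.Limits AlgebraicGeometry
open Groth.Agent.Lib.Helper97.DefAff

universe u

variable {k : Type u} [Field k]

/-- Ring data of a deformation of `Spec B₀` over `A`: a flat `A`-algebra `R` with a surjection onto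
`B₀` whose kernel is generated by the maximal ideal of `A`. -/
structure AlgData (A : ArtFun.Art k k) (B₀ : Type u) [CommRing B₀] [Algebra k B₀] where
  /-- the ring -/
  R : Type u
  [commRing : CommRing R]
  /-- the structure map -/
  a : A.carrier →+* R
  /-- the reduction -/
  π : R →+* B₀
  flat : a.Flat
  π_surj : Function.Surjective π
  ker_π : RingHom.ker π = (RingHom.ker A.res.toRingHom).map a
  π_a : ∀ c : A.carrier, π (a c) = algebraMap k B₀ (A.res c)

attribute [instance] AlgData.commRing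

variable {A : ArtFun.Art k k} {B₀ : Type u} [CommRing B₀] [Algebra k B₀]

/-- The deformation attached to ring data. -/
noncomputable def ofAlg (d : AlgData A B₀) : ArtFun.DefSch (Spec (CommRingCat.of B₀))
    (Spec.map (CommRingCat.ofHom (algebraMap k B₀))) A where
  total := Spec (CommRingCat.of d.R)
  f := Spec.map (CommRingCat.ofHom d.a)
  flat := (HasRingHomProperty.Spec_iff (P := @Flat)).mpr d.flat
  i := Spec.map (CommRingCat.ofHom d.π)
  isPullback := isPullback_SpecMap_of_isPushout _ _ _ _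
    (isPushout_of_surjective d.a A.res.toRingHom d.π (algebraMap k B₀)
      (RingHom.ext d.π_a) d.π_surj d.ker_π A.res_surjective)

/-- Ring isomorphisms of ring data give isomorphisms of deformations. -/
noncomputable def isoOfRingEquiv (d d' : AlgData A B₀) (φ : d.R ≃+* d'.R)
    (hφa : ∀ c, φ (d.a c) = d'.a c) (hφπ : ∀ x, d'.π (φ x) = d.π x) :
    (ofAlg d).Iso (ofAlg d') where
  iso :=
    { hom := (Spec.map (CommRingCat.ofHom (φ.symm : d'.R →+* d.R)) :
        Spec (CommRingCat.of d.R) ⟶ Spec (CommRingCat.of d'.R))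
      inv := (Spec.map (CommRingCat.ofHom (φ : d.R →+* d'.R)) :
        Spec (CommRingCat.of d'.R) ⟶ Spec (CommRingCat.of d.R))
      hom_inv_id := by
        show Spec.map (CommRingCat.ofHom (φ.symm : d'.R →+* d.R)) ≫
          Spec.map (CommRingCat.ofHom (φ : d.R →+* d'.R)) = 𝟙 (Spec (CommRingCat.of d.R))
        rw [← Spec.map_comp, ← CommRingCat.ofHom_comp]
        have : (φ.symm : d'.R →+* d.R).comp (φ : d.R →+* d'.R) = RingHom.id d.R :=
          RingHom.ext fun x => φ.symm_apply_apply x
        rw [this, CommRingCat.ofHom_id, Spec.map_id]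
      inv_hom_id := by
        show Spec.map (CommRingCat.ofHom (φ : d.R →+* d'.R)) ≫
          Spec.map (CommRingCat.ofHom (φ.symm : d'.R →+* d.R)) = 𝟙 (Spec (CommRingCat.of d'.R))
        rw [← Spec.map_comp, ← CommRingCat.ofHom_comp]
        have : (φ : d.R →+* d'.R).comp (φ.symm : d'.R →+* d.R) = RingHom.id d'.R :=
          RingHom.ext fun x => φ.apply_symm_apply x
        rw [this, CommRingCat.ofHom_id, Spec.map_id] }
  hom_f := by
    show Spec.map (CommRingCat.ofHom (φ.symm : d'.R →+* d.R)) ≫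
      Spec.map (CommRingCat.ofHom d'.a) = Spec.map (CommRingCat.ofHom d.a)
    rw [← Spec.map_comp, ← CommRingCat.ofHom_comp]
    congr 2
    refine RingHom.ext fun c => ?_
    show φ.symm (d'.a c) = d.a c
    rw [RingEquiv.symm_apply_eq, hφa]
  i_hom := by
    show Spec.map (CommRingCat.ofHom d.π) ≫
      Spec.map (CommRingCat.ofHom (φ.symm : d'.R →+* d.R)) = Spec.map (CommRingCat.ofHom d'.π)
    rw [← Spec.map_comp, ← CommRingCat.ofHom_comp]
    congr 2
    refine RingHom.ext fun y => ?_
    show d.π (φ.symm y) = d'.π y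
    rw [← hφπ, RingEquiv.apply_symm_apply]

/-- Every deformation of `Spec B₀` comes from ring data. -/
theorem exists_algData_iso
    (ξ : ArtFun.DefSch (Spec (CommRingCat.of B₀)) (Spec.map (CommRingCat.ofHom (algebraMap k B₀))) A) :
    ∃ d : AlgData A B₀, Nonempty ((ofAlg d).Iso ξ) := by
  let e : A.carrier →ₐ[k] k := A.res
  have hsq : IsPullback ξ.i (Spec.map (CommRingCat.ofHom (algebraMap k B₀))) ξ.f
      (Spec.map (CommRingCat.ofHom e.toRingHom)) := ξ.isPullback
  haveI : Flat ξ.f := ξ.flat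
  have he : Function.Surjective e.toRingHom := A.res_surjective
  have hnil : IsNilpotent (RingHom.ker e.toRingHom) := isNilpotent_ker_of_isArtinianRing _
  have _ : IsAffine ξ.total :=
    isAffine_of_isPullback e.toRingHom he (le_nilradical_of_isNilpotent hnil) hsq
  have hΓbij : Function.Bijective (Scheme.ΓSpecIso (CommRingCat.of B₀)).hom.hom :=
    (ConcreteCategory.isIso_iff_bijective _).mp inferInstance
  let π : Γ(ξ.total, ⊤) →+* B₀ :=
    (Scheme.ΓSpecIso (CommRingCat.of B₀)).hom.hom.comp ξ.i.appTop.hom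
  have hπa : ∀ c : A.carrier, π (baseMap ξ.f c) = algebraMap k B₀ (A.res c) := by
    intro c
    change (Scheme.ΓSpecIso (CommRingCat.of B₀)).hom.hom
      (ξ.i.appTop.hom (baseMap ξ.f c)) = algebraMap k B₀ (A.res c)
    have h1 := RingHom.congr_fun (appTop_comp_baseMap e hsq) c
    rw [RingHom.comp_apply] at h1
    rw [h1, RingHom.comp_apply, ΓSpecIso_hom_baseMap_specMap]
    rfl
  have hπ : Function.Surjective π := hΓbij.2.comp (appTop_surjective e.toRingHom he hsq)
  have hker : RingHom.ker π = (RingHom.ker e.toRingHom).map (baseMap ξ.f) := by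
    rw [← ker_appTop e.toRingHom he hsq]
    ext y
    rw [RingHom.mem_ker, RingHom.mem_ker]
    change (Scheme.ΓSpecIso (CommRingCat.of B₀)).hom.hom (ξ.i.appTop.hom y) = 0 ↔ _
    exact map_eq_zero_iff _ hΓbij.1
  let d : AlgData A B₀ :=
    { R := Γ(ξ.total, ⊤)
      a := baseMap ξ.f
      π := π
      flat := flat_baseMap (g := ξ.f)
      π_surj := hπ
      ker_π := hker
      π_a := hπa }
  have hda : CommRingCat.ofHom d.a =
      (Scheme.ΓSpecIso (CommRingCat.of A.carrier)).inv ≫ ξ.f.appTop := rfl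
  have hdπ : CommRingCat.ofHom d.π =
      ξ.i.appTop ≫ (Scheme.ΓSpecIso (CommRingCat.of B₀)).hom := rfl
  refine ⟨d, ⟨⟨ξ.total.isoSpec.symm, ?_, ?_⟩⟩⟩
  · show ξ.total.isoSpec.inv ≫ ξ.f = Spec.map (CommRingCat.ofHom d.a)
    rw [hda, Iso.inv_comp_eq]
    exact eq_toSpecΓ_comp ξ.f
  · show Spec.map (CommRingCat.ofHom d.π) ≫ ξ.total.isoSpec.inv = ξ.i
    rw [hdπ, Iso.comp_inv_eq, Spec.map_comp, SpecMap_ΓSpecIso_hom]
    exact (Scheme.toSpecΓ_naturality ξ.i).symm

/-- Base change of ring data along a surjection of the base. -/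
theorem nonempty_baseChange_iso {A' : ArtFun.Art k k} (p : A' ⟶ A) (d' : AlgData A' B₀)
    (d : AlgData A B₀) (q : d'.R →+* d.R) (hq : Function.Surjective q)
    (hp : Function.Surjective p.toAlgHom.toRingHom)
    (hker : RingHom.ker q = (RingHom.ker p.toAlgHom.toRingHom).map d'.a)
    (hqa : ∀ c, q (d'.a c) = d.a (p.toAlgHom c)) (hqπ : ∀ x, d.π (q x) = d'.π x) :
    Nonempty (((ofAlg d').baseChange p).Iso (ofAlg d)) := by
  have hpo := isPushout_of_surjective d'.a p.toAlgHom.toRingHom q d.a
    (RingHom.ext hqa) hq hker hp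
  have hpb : IsPullback (Spec.map (CommRingCat.ofHom q)) (Spec.map (CommRingCat.ofHom d.a))
      (Spec.map (CommRingCat.ofHom d'.a)) (Spec.map (CommRingCat.ofHom p.toAlgHom.toRingHom)) :=
    isPullback_SpecMap_of_isPushout _ _ _ _ hpo
  let qS : (ofAlg d).total ⟶ (ofAlg d').total := Spec.map (CommRingCat.ofHom q)
  have hpb' : IsPullback qS (ofAlg d).f (ofAlg d').f (ArtFun.Art.specMap p) := hpb
  have hiq : (ofAlg d).i ≫ qS = (ofAlg d').i := by
    show Spec.map (CommRingCat.ofHom d.π) ≫ Spec.map (CommRingCat.ofHom q) =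
      Spec.map (CommRingCat.ofHom d'.π)
    rw [← Spec.map_comp, ← CommRingCat.ofHom_comp]
    congr 2
    exact RingHom.ext hqπ
  let big := IsPullback.of_hasPullback (ofAlg d').f (ArtFun.Art.specMap p)
  refine ⟨⟨big.isoIsPullback _ _ hpb', ?_, ?_⟩⟩
  · exact IsPullback.isoIsPullback_hom_snd _ _ big hpb'
  · have hfst := IsPullback.isoIsPullback_hom_fst _ _ big hpb'
    have hsnd := IsPullback.isoIsPullback_hom_snd _ _ big hpb'
    apply hpb'.hom_ext
    · rw [Category.assoc, hfst, ArtFun.DefSch.baseChange_i_fst, hiq]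
    · rw [Category.assoc, hsnd]
      exact (ArtFun.DefSch.baseChange_i_f (ofAlg d') p).trans (ofAlg d).i_f.symm

end Groth.Agent.Lib.Helper97.DefLift
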