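import Groth.Agent.Lib.Helper6.NilpNakayama
import Mathlib

/-!
# Flatness over a small extension
-/

set_option autoImplicit false

namespace Groth.Agent.Lib.Helper97.DefLift

universe u

open Groth.Agent.Lib.Helper6.NilpNakayama

lemma exists_smul_of_mapRange_eq_zero {A' A : Type*} [CommRing A'] [CommRing A] (p : A' →+* A)
    (t : A') (hker : RingHom.ker p = Ideal.span {t}) {Λ : Type*} (x : Λ →₀ A')
    (hx : Finsupp.mapRange p (map_zero p) x = 0) : ∃ d : Λ →₀ A', x = t • d := by
  classical
  have h1 : ∀ l, ∃ c : A', x l = t * c := by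
    intro l
    have : p (x l) = 0 := by
      have := DFunLike.congr_fun hx l
      rwa [Finsupp.mapRange_apply] at this
    have h2 : x l ∈ Ideal.span {t} := by rw [← hker]; exact this
    obtain ⟨c, hc⟩ := Ideal.mem_span_singleton'.mp h2
    exact ⟨c, by rw [← hc, mul_comm]⟩
  choose c hc using h1
  refine ⟨∑ l ∈ x.support, Finsupp.single l (c l), ?_⟩
  rw [Finset.smul_sum]
  conv_lhs => rw [← Finsupp.sum_single x]
  rw [Finsupp.sum]
  refine Finset.sum_congr rfl fun l _ => ?_
  rw [Finsupp.smul_single, smul_eq_mul, hc]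

/-- Flatness over a small extension: if `M / t M` is flat over `A = A' / (t)` and every element
killed by `t` lies in `𝔪 M`, then `M` is flat (even free) over `A'`. -/
theorem flat_of_small {A' A M N : Type u} [CommRing A'] [CommRing A] [IsLocalRing A]
    (hA : IsNilpotent (IsLocalRing.maximalIdeal A))
    [AddCommGroup M] [Module A' M] [AddCommGroup N] [Module A N] [Module.Flat A N]
    (p : A' →+* A) (hp : Function.Surjective p) (t : A') (hker : RingHom.ker p = Ideal.span {t})
    (𝔪 : Ideal A') (ht : ∀ c ∈ 𝔪, c * t = 0) (ht𝔪 : t ∈ 𝔪)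
    (q : M →+ N) (hq : Function.Surjective q) (hqs : ∀ (c : A') (x : M), q (c • x) = p c • q x)
    (hqker : ∀ x, q x = 0 → ∃ y, x = t • y)
    (hM : ∀ x : M, t • x = 0 → x ∈ 𝔪 • (⊤ : Submodule A' M)) :
    Module.Flat A' M := by
  classical
  haveI : Module.Free A N := free_of_flat_of_nilpotent hA
  let b := Module.Free.chooseBasis A N
  have hv : ∀ l, ∃ m : M, q m = b l := fun l => hq (b l)
  choose v hv using hv
  let Φ : (Module.Free.ChooseBasisIndex A N →₀ A') →ₗ[A'] M := Finsupp.linearCombination A' v
  have hqΦ : ∀ x, q (Φ x) = Finsupp.linearCombination A b (Finsupp.mapRange p (map_zero p) x) := by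
    intro x
    induction x using Finsupp.induction_linear with
    | zero => simp
    | add f g hf hg =>
      rw [map_add, map_add, hf, hg, Finsupp.mapRange_add (map_add p), map_add]
    | single l c =>
      show q (Finsupp.linearCombination A' v (Finsupp.single l c)) = _
      rw [Finsupp.linearCombination_single, hqs, hv, Finsupp.mapRange_single,
        Finsupp.linearCombination_single]
  have htt : t * t = 0 := ht t ht𝔪
  have hnil : IsNilpotent (Ideal.span {t} : Ideal A') := by
    refine ⟨2, ?_⟩
    rw [Ideal.span_singleton_pow, sq, htt]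
    exact Ideal.span_singleton_eq_bot.mpr rfl
  -- surjectivity
  have hsurj : Function.Surjective Φ := by
    rw [← LinearMap.range_eq_top]
    apply eq_top_of_sup_smul_top_of_isNilpotent _ hnil
    rw [eq_top_iff]
    intro x _
    obtain ⟨l', hl'⟩ := Finsupp.mapRange_surjective p (map_zero p) hp (b.repr (q x))
    have h1 : q (x - Φ l') = 0 := by
      rw [map_sub, hqΦ, hl', b.linearCombination_repr, sub_self]
    obtain ⟨y, hy⟩ := hqker _ h1
    have h2 : x = Φ l' + t • y := by rw [← hy]; abel
    rw [h2]
    refine Submodule.add_mem_sup (LinearMap.mem_range_self _ _) ?_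
    exact Submodule.smul_mem_smul (Ideal.mem_span_singleton_self t) Submodule.mem_top
  -- the kernel consists of multiples of `t`
  have hkerΦ : ∀ x, Φ x = 0 → ∃ d, x = t • d := by
    intro x hx
    apply exists_smul_of_mapRange_eq_zero p t hker
    have h1 : Finsupp.linearCombination A b (Finsupp.mapRange p (map_zero p) x) = 0 := by
      rw [← hqΦ, hx, map_zero]
    exact (LinearMap.ker_eq_bot.mpr b.linearIndependent).le h1 |> fun h => by
      simpa using h
  have hinj : Function.Injective Φ := by
    rw [injective_iff_map_eq_zero]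
    intro x hx
    obtain ⟨d, rfl⟩ := hkerΦ x hx
    rw [map_smul] at hx
    have h1 : Φ d ∈ 𝔪 • (⊤ : Submodule A' M) := hM _ hx
    have h2 : 𝔪 • (⊤ : Submodule A' M) =
        Submodule.map Φ (𝔪 • (⊤ : Submodule A' (Module.Free.ChooseBasisIndex A N →₀ A'))) := by
      rw [Submodule.map_smul'', Submodule.map_top, LinearMap.range_eq_top.mpr hsurj]
    rw [h2] at h1
    obtain ⟨μ, hμ, hμd⟩ := h1
    have h3 : Φ (d - μ) = 0 := by rw [map_sub, hμd, sub_self]
    obtain ⟨d', hd'⟩ := hkerΦ _ h3
    have h4 : d = μ + t • d' := by rw [← hd']; abel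
    have h5 : t • μ = 0 := by
      refine Submodule.smul_induction_on hμ ?_ ?_
      · intro c hc y _
        rw [← mul_smul, mul_comm, ht c hc, zero_smul]
      · intro y z hy hz
        rw [smul_add, hy, hz, add_zero]
    rw [h4, smul_add, h5, ← mul_smul, htt, zero_smul, add_zero]
  exact Module.Flat.of_linearEquiv (LinearEquiv.ofBijective Φ ⟨hinj, hsurj⟩).symm

end Groth.Agent.Lib.Helper97.DefLift
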