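import Groth.Agent.Lib.Helper97.CotT2.Datum
import Mathlib

/-!
# Consequences of projectivity: kernels meet `I M` in `I` times the kernel
-/

set_option autoImplicit false

namespace Groth.Agent.Lib.Helper97.DefLift

open Groth.Agent.Lib.Helper97.CotT2

section General

variable {A M N : Type*} [CommRing A] [AddCommGroup M] [Module A M] [AddCommGroup N] [Module A N]

theorem ker_inf_smul_top_le (φ : M →ₗ[A] N) (s : N →ₗ[A] M) (hs : ∀ y, φ (s y) = y)
    (I : Ideal A) :
    LinearMap.ker φ ⊓ I • (⊤ : Submodule A M) ≤ I • LinearMap.ker φ := by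
  rintro x ⟨hx1, hx2⟩
  let P : M →ₗ[A] M := LinearMap.id - s.comp φ
  have hP : ∀ y, P y = y - s (φ y) := fun y => rfl
  have hPx : P x = x := by
    rw [hP, LinearMap.mem_ker.mp hx1, map_zero, sub_zero]
  have hPker : Submodule.map P ⊤ ≤ LinearMap.ker φ := by
    rintro _ ⟨y, -, rfl⟩
    rw [LinearMap.mem_ker, hP, map_sub, hs, sub_self]
  have h1 : P x ∈ Submodule.map P (I • (⊤ : Submodule A M)) := Submodule.mem_map_of_mem hx2
  rw [Submodule.map_smul''] at h1
  rw [← hPx]
  exact Submodule.smul_mono (le_refl I) hPker h1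

theorem ker_inf_smul_top_le_of_projective [Module.Projective A N] (φ : M →ₗ[A] N)
    (hφ : Function.Surjective φ) (I : Ideal A) :
    LinearMap.ker φ ⊓ I • (⊤ : Submodule A M) ≤ I • LinearMap.ker φ := by
  obtain ⟨s, hs⟩ := Module.projective_lifting_property φ LinearMap.id hφ
  exact ker_inf_smul_top_le φ s (fun y => LinearMap.congr_fun hs y) I

/-- The kernel of a surjection onto a projective module from a projective module is projective. -/
theorem projective_ker [Module.Projective A M] [Module.Projective A N] (φ : M →ₗ[A] N)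
    (hφ : Function.Surjective φ) : Module.Projective A (LinearMap.ker φ) := by
  obtain ⟨s, hs⟩ := Module.projective_lifting_property φ LinearMap.id hφ
  have hs' : ∀ y, φ (s y) = y := fun y => LinearMap.congr_fun hs y
  let P : M →ₗ[A] LinearMap.ker φ :=
    LinearMap.codRestrict (LinearMap.ker φ) (LinearMap.id - s.comp φ) (fun y => by
      rw [LinearMap.mem_ker]
      show φ (y - s (φ y)) = 0
      rw [map_sub, hs', sub_self])
  refine Module.Projective.of_split (LinearMap.ker φ).subtype P ?_
  ext x
  show (x : M) - s (φ x) = x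
  rw [LinearMap.mem_ker.mp x.2, map_zero, sub_zero]

end General

section Algebra

variable {A S R : Type*} [CommRing A] [CommRing S] [CommRing R] [Algebra A S] [Algebra A R]

/-- For a surjection of `A`-algebras onto an `A`-projective algebra, `ker ∩ I S ⊆ (I S) ker`. -/
theorem ker_inf_map_le [Module.Projective A R] (pr : S →ₐ[A] R) (hpr : Function.Surjective pr)
    (I : Ideal A) :
    RingHom.ker (pr : S →+* R) ⊓ I.map (algebraMap A S) ≤
      I.map (algebraMap A S) * RingHom.ker (pr : S →+* R) := by
  rintro x ⟨hx1, hx2⟩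
  have h1 : x ∈ LinearMap.ker pr.toLinearMap ⊓ I • (⊤ : Submodule A S) := by
    refine ⟨hx1, ?_⟩
    rw [Ideal.smul_top_eq_map]
    exact hx2
  have h2 := ker_inf_smul_top_le_of_projective pr.toLinearMap hpr I h1
  refine Submodule.smul_induction_on h2 ?_ ?_
  · intro c hc y hy
    rw [Algebra.smul_def]
    exact Ideal.mul_mem_mul (Ideal.mem_map_of_mem _ hc) hy
  · intro y z hy hz
    exact add_mem hy hz

variable {σ : Type*}

/-- Relations with coefficients in `I S` are `I S`-combinations of relations, when the ideal
generated is `A`-projective. -/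
theorem mem_smul_Q_of_forall_mem [Module.Projective A S] [Module.Projective A R]
    (pr : S →ₐ[A] R) (hpr : Function.Surjective pr) (F : σ → S)
    (hF : Ideal.span (Set.range F) = RingHom.ker (pr : S →+* R)) (I : Ideal A)
    (q : σ →₀ S) (hq : q ∈ Q F) (hqI : ∀ s, q s ∈ I.map (algebraMap A S)) :
    q ∈ (I.map (algebraMap A S)) • Q F := by
  classical
  -- the kernel is projective
  haveI hK : Module.Projective A (LinearMap.ker pr.toLinearMap) := projective_ker pr.toLinearMap hpr
  have hjm_mem : ∀ y : σ →₀ S, jm F y ∈ LinearMap.ker pr.toLinearMap := by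
    intro y
    have : jm F y ∈ Ideal.span (Set.range F) := by
      change jm F y ∈ Submodule.span S (Set.range F)
      rw [jm, ← Finsupp.range_linearCombination]
      exact ⟨y, rfl⟩
    rw [hF] at this
    exact this
  let φ : (σ →₀ S) →ₗ[A] LinearMap.ker pr.toLinearMap :=
    LinearMap.codRestrict (LinearMap.ker pr.toLinearMap) ((jm F).restrictScalars A) hjm_mem
  have hφ : Function.Surjective φ := by
    rintro ⟨x, hx⟩
    have hx' : x ∈ Submodule.span S (Set.range F) := by
      change x ∈ Ideal.span (Set.range F)
      rw [hF]; exact hx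
    rw [← Finsupp.range_linearCombination] at hx'
    obtain ⟨y, hy⟩ := hx'
    exact ⟨y, Subtype.ext hy⟩
  have hker : ∀ y, y ∈ LinearMap.ker φ ↔ y ∈ Q F := by
    intro y
    rw [LinearMap.mem_ker, mem_Q]
    constructor
    · intro h
      exact congrArg Subtype.val h
    · intro h
      exact Subtype.ext h
  have hqtop : q ∈ I • (⊤ : Submodule A (σ →₀ S)) := by
    rw [← Finsupp.sum_single q]
    refine Submodule.sum_mem _ fun s _ => ?_
    have h1 : q s ∈ I • (⊤ : Submodule A S) := by
      rw [Ideal.smul_top_eq_map]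
      exact hqI s
    have h2 : Finsupp.single s (q s) ∈
        Submodule.map (Finsupp.lsingle s : S →ₗ[A] σ →₀ S) (I • (⊤ : Submodule A S)) :=
      ⟨q s, h1, rfl⟩
    rw [Submodule.map_smul''] at h2
    exact Submodule.smul_mono (le_refl I) le_top h2
  have h3 := ker_inf_smul_top_le_of_projective φ hφ I ⟨(hker q).mpr hq, hqtop⟩
  refine Submodule.smul_induction_on h3 ?_ ?_
  · intro c hc y hy
    have : c • y = (algebraMap A S c) • y := by
      rw [algebraMap_smul]
    rw [this]
    exact Submodule.smul_mem_smul (Ideal.mem_map_of_mem _ hc) ((hker y).mp hy)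
  · intro y z hy hz
    exact add_mem hy hz

end Algebra

end Groth.Agent.Lib.Helper97.DefLift
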