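import Groth.Agent.Lib.Helper97.DefLift.Core
import Groth.Agent.Lib.Helper97.DefLift.Split
import Groth.Agent.Lib.Helper97.DefLift.FlatSmall
import Groth.Agent.Lib.Helper97.DefAff.RigidTrivial
import Groth.Prelude.Def_CotT

/-!
# The lifting problem for polynomial rings over a small extension of Artinian `k`-algebras
-/

set_option autoImplicit false

namespace Groth.Agent.Lib.Helper97.DefLift

open Groth.Agent.Lib.Helper97.CotT2 Groth.Agent.Lib.Helper97.DefAff MvPolynomial

universe u

variable {k : Type u} [Field k] {A' A : Type u} [CommRing A'] [CommRing A] [Algebra k A']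
  [Algebra k A] [IsLocalRing A'] [IsLocalRing A] [IsArtinianRing A'] [IsArtinianRing A]
  (eA' : A' →ₐ[k] k) (eA : A →ₐ[k] k) (p : A' →ₐ[k] A) (hpe : eA.comp p = eA')
  (hp : Function.Surjective p) (t₀ : A') (hker : RingHom.ker p.toRingHom = Ideal.span {t₀})
  (ht₀ : t₀ ≠ 0) (hmt : ∀ c ∈ IsLocalRing.maximalIdeal A', c * t₀ = 0)
  {B₀ : Type u} [CommRing B₀] [Algebra k B₀] {ι σ : Type u}
  (P : Algebra.Presentation k B₀ ι σ)
  {R : Type u} [CommRing R] (a : A →+* R) (π : R →+* B₀) (ha : a.Flat)
  (hπ : Function.Surjective π) (hkerπ : RingHom.ker π = (RingHom.ker eA.toRingHom).map a)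
  (hπa : ∀ c : A, π (a c) = algebraMap k B₀ (eA c))

/-- the reduction `A'[X] → A[X]` -/
noncomputable abbrev ρ'M (ι : Type u) : MvPolynomial ι A' →+* MvPolynomial ι A := map p.toRingHom

/-- the reduction `A[X] → k[X]` -/
noncomputable abbrev ρM : MvPolynomial ι A →+* P.toExtension.Ring :=
  (map eA.toRingHom : MvPolynomial ι A →+* MvPolynomial ι k)

/-- the section `k[X] → A'[X]` -/
noncomputable abbrev jM (A' : Type u) [CommRing A'] [Algebra k A'] :
    P.toExtension.Ring →+* MvPolynomial ι A' :=
  (map (algebraMap k A') : MvPolynomial ι k →+* MvPolynomial ι A')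

include hpe in
lemma eA_p (c : A') : eA (p c) = eA' c := congrArg (fun f => f c) hpe

lemma ker_ρM : RingHom.ker (ρM eA P) = (IsLocalRing.maximalIdeal A).map (C : A →+* MvPolynomial ι A) := by
  rw [← ker_eq_maximalIdeal eA]
  exact MvPolynomial.ker_map eA.toRingHom

include hpe in
lemma ker_ρM_comp : RingHom.ker ((ρM eA P).comp (ρ'M p ι)) =
    (IsLocalRing.maximalIdeal A').map (C : A' →+* MvPolynomial ι A') := by
  rw [← ker_eq_maximalIdeal eA']
  have : (ρM eA P).comp (ρ'M p ι) = (map eA'.toRingHom : MvPolynomial ι A' →+* MvPolynomial ι k) := by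
    refine RingHom.ext fun x => ?_
    show map eA.toRingHom (map p.toRingHom x) = map eA'.toRingHom x
    rw [MvPolynomial.map_map]
    congr 2
    exact RingHom.ext fun c => eA_p eA' eA p hpe c
  rw [this]
  exact MvPolynomial.ker_map eA'.toRingHom

lemma map_map_map_eq (g : MvPolynomial ι k) :
    map eA.toRingHom (map p.toRingHom (map (algebraMap k A') g)) = g := by
  rw [MvPolynomial.map_map, MvPolynomial.map_map]
  have : (eA.toRingHom.comp p.toRingHom).comp (algebraMap k A') = RingHom.id k := by
    refine RingHom.ext fun c => ?_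
    show eA (p (algebraMap k A' c)) = c
    rw [p.commutes, eA.commutes]
    rfl
  rw [this, MvPolynomial.map_id]

include ht₀ in
lemma eq_zero_of_C_mul_map (g : MvPolynomial ι k)
    (hg : (C t₀ : MvPolynomial ι A') * map (algebraMap k A') g = 0) : g = 0 := by
  refine MvPolynomial.ext _ _ fun m => ?_
  have h1 := congrArg (coeff m) hg
  rw [coeff_C_mul, coeff_zero, coeff_map] at h1
  rw [coeff_zero]
  by_contra hne
  have hu : IsUnit (algebraMap k A' (coeff m g)) := (isUnit_iff_ne_zero.mpr hne).map _
  exact ht₀ (hu.mul_left_eq_zero.mp h1)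

variable (r : ι → R) (hr : ∀ i, π (r i) = algebraMap P.toExtension.Ring B₀ (X i))

include hp hker ht₀ hmt hpe ha hπ hkerπ hπa hr in
theorem coreHyp_mvPolynomial :
    CoreHyp (ρ'M p ι) (ρM eA P) (jM P A') (eval₂Hom a r) π (C t₀ : MvPolynomial ι A')
      (CotT.rel P) := by
  letI algR : Algebra A R := a.toAlgebra
  have hflat : Module.Flat A R := ha
  have hfree : Module.Free A R :=
    Groth.Agent.Lib.Helper6.NilpNakayama.free_of_flat_of_nilpotent isNilpotent_maximalIdeal
  let prA : MvPolynomial ι A →ₐ[A] R :=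
    { eval₂Hom a r with
      commutes' := fun c => eval₂Hom_C a r c }
  have hprA : ∀ x, prA x = eval₂Hom a r x := fun x => rfl
  have hπpr : ∀ x, π (eval₂Hom a r x) = algebraMap P.toExtension.Ring B₀ (ρM eA P x) := by
    intro x
    have : π.comp (eval₂Hom a r) = (algebraMap P.toExtension.Ring B₀).comp (ρM eA P) := by
      apply MvPolynomial.ringHom_ext
      · intro c
        show π (eval₂Hom a r (C c)) = algebraMap P.toExtension.Ring B₀ (map eA.toRingHom (C c))
        rw [eval₂Hom_C, hπa, MvPolynomial.map_C]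
        exact IsScalarTower.algebraMap_apply k P.toExtension.Ring B₀ (eA c)
      · intro i
        show π (eval₂Hom a r (X i)) = algebraMap P.toExtension.Ring B₀ (map eA.toRingHom (X i))
        rw [eval₂Hom_X', hr, MvPolynomial.map_X]
    exact congrArg (fun f => f x) this
  have hκsurj : Function.Surjective (algebraMap P.toExtension.Ring B₀) := P.algebraMap_surjective
  have hsec : ∀ g : P.toExtension.Ring, ρM eA P (map (algebraMap k A) g) = g := by
    intro g
    show map eA.toRingHom (map (algebraMap k A) g) = g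
    rw [MvPolynomial.map_map]
    have : eA.toRingHom.comp (algebraMap k A) = RingHom.id k := RingHom.ext fun c => eA.commutes c
    rw [this, MvPolynomial.map_id]
  have hprsurj : Function.Surjective (eval₂Hom a r) := by
    have h1 : LinearMap.range prA.toLinearMap = ⊤ := by
      apply Groth.Agent.Lib.Helper6.NilpNakayama.eq_top_of_sup_smul_top_of_isNilpotent
        (IsLocalRing.maximalIdeal A) isNilpotent_maximalIdeal
      rw [eq_top_iff]
      intro y _
      obtain ⟨g, hg⟩ := hκsurj (π y)
      have h2 : π (y - eval₂Hom a r (map (algebraMap k A) g)) = 0 := by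
        rw [map_sub, hπpr, hsec, hg, sub_self]
      have h3 : y - eval₂Hom a r (map (algebraMap k A) g) ∈
          IsLocalRing.maximalIdeal A • (⊤ : Submodule A R) := by
        rw [Ideal.smul_top_eq_map, ← ker_eq_maximalIdeal eA]
        show _ ∈ (RingHom.ker eA.toRingHom).map a
        rw [← hkerπ]
        exact h2
      have h4 : y = prA (map (algebraMap k A) g) +
          (y - eval₂Hom a r (map (algebraMap k A) g)) := by
        rw [hprA]; ring
      rw [h4]
      exact Submodule.add_mem_sup (LinearMap.mem_range_self _ _) h3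
    intro y
    have : y ∈ LinearMap.range prA.toLinearMap := by rw [h1]; trivial
    obtain ⟨x, hx⟩ := this
    exact ⟨x, hx⟩
  have hkerρ : RingHom.ker (ρM eA P) =
      (IsLocalRing.maximalIdeal A).map (algebraMap A (MvPolynomial ι A)) := ker_ρM eA P
  have hsec' : ∀ g : P.toExtension.Ring, ρM eA P (ρ'M p ι (jM P A' g)) = g :=
    fun g => map_map_map_eq eA p g
  refine
    { ρ'_surj := MvPolynomial.map_surjective p.toRingHom hp
      ker_ρ' := ?_
      ρ_surj := MvPolynomial.map_surjective eA.toRingHom (fun c => ⟨algebraMap k A c, eA.commutes c⟩)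
      sec := ?_
      t_kill := ?_
      t_inj := ?_
      pr_surj := hprsurj
      π_pr := hπpr
      ker_π := ?_
      nil := ?_
      inter := ?_
      rel := ?_
      span_f := P.span_range_relation_eq_ker
      κ_surj := hκsurj }
  · show RingHom.ker (map p.toRingHom : MvPolynomial ι A' →+* MvPolynomial ι A) = _
    rw [MvPolynomial.ker_map, hker, Ideal.map_span, Set.image_singleton]
  · exact hsec'
  · intro x hx
    have hx' : x ∈ RingHom.ker ((ρM eA P).comp (ρ'M p ι)) := hx
    rw [ker_ρM_comp eA' eA p hpe P, MvPolynomial.mem_map_C_iff] at hx'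
    ext m
    rw [coeff_C_mul, coeff_zero, mul_comm]
    exact hmt _ (hx' m)
  · intro g hg
    exact eq_zero_of_C_mul_map t₀ ht₀ g hg
  · rw [hkerπ, ker_ρM eA P, ker_eq_maximalIdeal eA, Ideal.map_map]
    congr 1
    refine RingHom.ext fun c => ?_
    exact (eval₂Hom_C a r c).symm
  · rw [ker_ρM eA P]
    exact isNilpotent_map _ isNilpotent_maximalIdeal
  · rw [hkerρ]
    exact ker_inf_map_le prA hprsurj (IsLocalRing.maximalIdeal A)
  · intro F hF q hq hqI
    rw [hkerρ] at hqI ⊢
    exact mem_smul_Q_of_forall_mem prA hprsurj F hF (IsLocalRing.maximalIdeal A) q hq hqI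

end Groth.Agent.Lib.Helper97.DefLift
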