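import Groth.Agent.Lib.Helper97.CotT2.Datum
import Mathlib

/-!
# Coefficientwise maps of finitely supported functions along ring maps
-/

set_option autoImplicit false

namespace Groth.Agent.Lib.Helper97.DefLift

open Groth.Agent.Lib.Helper97.CotT2

variable {R S T : Type*} [CommRing R] [CommRing S] [CommRing T] {σ : Type*}

/-- Coefficientwise application of a ring map, as an additive map. -/
noncomputable def mr (g : R →+* S) : (σ →₀ R) →+ (σ →₀ S) :=
  Finsupp.mapRange.addMonoidHom g.toAddMonoidHom

@[simp] lemma mr_apply (g : R →+* S) (q : σ →₀ R) (s : σ) : mr g q s = g (q s) := rfl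

lemma mr_single (g : R →+* S) (s : σ) (x : R) :
    mr g (Finsupp.single s x) = Finsupp.single s (g x) := by
  ext s'
  classical
  rw [mr_apply, Finsupp.single_apply, Finsupp.single_apply]
  split_ifs
  · rfl
  · exact map_zero g

lemma mr_smul (g : R →+* S) (x : R) (q : σ →₀ R) : mr g (x • q) = g x • mr g q := by
  ext s
  rw [mr_apply, Finsupp.smul_apply, Finsupp.smul_apply, mr_apply, smul_eq_mul, smul_eq_mul, map_mul]

lemma mr_comp (g : R →+* S) (h : S →+* T) (q : σ →₀ R) : mr h (mr g q) = mr (h.comp g) q := by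
  ext s
  rfl

lemma mr_surjective (g : R →+* S) (hg : Function.Surjective g) :
    Function.Surjective (mr g : (σ →₀ R) → (σ →₀ S)) :=
  Finsupp.mapRange_surjective g (map_zero g) hg

lemma jm_mr (g : R →+* S) (r : σ → R) (r' : σ → S) (h : ∀ s, g (r s) = r' s) (q : σ →₀ R) :
    jm r' (mr g q) = g (jm r q) := by
  induction q using Finsupp.induction_linear with
  | zero => simp
  | add a b ha hb => rw [map_add, map_add, ha, hb, map_add, map_add]
  | single s x => rw [mr_single, jm_single, jm_single, map_mul, h]

lemma exists_smul_of_mr_eq_zero (g : R →+* S) (t : R) (hker : RingHom.ker g = Ideal.span {t})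
    (x : σ →₀ R) (hx : mr g x = 0) : ∃ d : σ →₀ R, x = t • d := by
  classical
  have h1 : ∀ l, ∃ c : R, x l = t * c := by
    intro l
    have : g (x l) = 0 := by
      have := DFunLike.congr_fun hx l
      rwa [mr_apply] at this
    have h2 : x l ∈ Ideal.span {t} := by rw [← hker]; exact this
    obtain ⟨c, hc⟩ := Ideal.mem_span_singleton'.mp h2
    exact ⟨c, by rw [← hc, mul_comm]⟩
  choose c hc using h1
  refine ⟨∑ l ∈ x.support, Finsupp.single l (c l), ?_⟩
  rw [Finset.smul_sum]
  conv_lhs => rw [← Finsupp.sum_single x]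
  rw [Finsupp.sum]
  refine Finset.sum_congr rfl fun l _ => ?_
  rw [Finsupp.smul_single, smul_eq_mul, hc]

lemma jm_smul' (r : σ → R) (x : R) (q : σ →₀ R) : jm r (x • q) = x * jm r q := by
  rw [map_smul, smul_eq_mul]

end Groth.Agent.Lib.Helper97.DefLift
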